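import Cfsg.Agent.H570.Ore.Abs
import Cfsg.Agent.H630.OreB.Cent
import Cfsg.Agent.S3331

/-!
# ORE (S2443), row B: every element of `B` with `|C(g)| ≤ 7700000000` is a commutator (helper630, helper570)

`t1_b` : `Spor.IsoB S → T1 S 7700000000`.
-/

set_option autoImplicit false
set_option maxRecDepth 100000

open Subgroup

namespace Cfsg.Agent.H630.OreB.Row

open Cfsg
open Cfsg.Agent.BabyM Cfsg.Agent.BabyU.ClosLane Cfsg.Agent.BabyU.ClosModel

/-- the theorem on groups with a self-centralizing subgroup of order three -/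
theorem h3 : H715.Mon.Grp.SThree.{0} := fun _ _ _ X hX hC => S3331.result X hX hC

theorem isoB : Spor.IsoB Inst.M.G := ⟨BM.KHAll.iso.symm⟩

theorem t1_model : H511.Ore.T1 Inst.M.G 7700000000 := by
  have hfin : Finite Inst.M.G := A.finite_G
  have hs : IsSimpleGroup Inst.M.G := A.simple
  have hN : Nat.card Inst.M.G = 4154781481226426191177580544000000 := A.card_G
  have ex : ∀ {p : ℕ}, p.Prime → p ∣ 4154781481226426191177580544000000 → ∃ y : Inst.M.G, orderOf y = p := by
    intro p hp hd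
    have : Fact p.Prime := ⟨hp⟩
    exact exists_prime_orderOf_dvd_card' p (by rw [hN]; exact hd)
  have hG : ¬ IsMulCommutative Inst.M.G := by
    intro hcomm
    have h5 : (Nat.card Inst.M.G).Prime := by
      let _ : CommGroup Inst.M.G := { (inferInstance : Group Inst.M.G) with mul_comm := fun a b => hcomm.is_comm.comm a b }
      exact IsSimpleGroup.prime_card
    rw [hN] at h5
    norm_num at h5
  have hcC : Nat.card (centralizer ({H570.Ore.Model.Z} : Set Inst.M.G)) = 2 ^ 23 * 42305421312000 := by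
    rw [Nat.card_congr (KFacts.Baby.Inst.eC A).toEquiv, A.grp.card_C]
  refine H570.Ore.Abs.t1 (Z := H570.Ore.Model.Z) ⟨hN, hG, H570.Ore.Model.Z_ne, H570.Ore.Model.Z_sq, ?_, H570.Ore.Model.ext,
    fun χ k hk => H570.Ore.Model.pure χ hk, ?_, ?_, ?_, ?_, ?_⟩
  · have h1 := (centralizer ({H570.Ore.Model.Z} : Set Inst.M.G)).card_mul_index
    rw [hcC, hN] at h1
    omega
  · obtain ⟨y, hy⟩ := ex (p := 47) (by norm_num) (by norm_num)
    exact ⟨y, hy, H954.DR.CentB.cent47 isoB hy⟩
  · obtain ⟨y, hy⟩ := ex (p := 31) (by norm_num) (by norm_num)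
    exact ⟨y, hy, Cent.c31 h3 isoB hy⟩
  · obtain ⟨x, hx, hxz, -⟩ := Cent.model23
    exact ⟨x, hx, hxz, Cent.c23 h3 isoB hx⟩
  · obtain ⟨y, hy⟩ := ex (p := 19) (by norm_num) (by norm_num)
    exact ⟨y, hy, Cent.c19 h3 isoB hy⟩
  · obtain ⟨y, hy⟩ := ex (p := 17) (by norm_num) (by norm_num)
    exact ⟨y, hy, Cent.c17 h3 isoB hy⟩

/-- **T1 for the Baby Monster.** -/
theorem t1_b {S : Type*} [Group S] (h : Spor.IsoB S) : H511.Ore.T1 S 7700000000 := by
  obtain ⟨e⟩ := h
  exact H511.Ore.T1.congr (e.trans BM.KHAll.iso) t1_model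

end Cfsg.Agent.H630.OreB.Row
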